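import Groth.Agent.Lib.PhiCd24.Devissage
import Groth.Agent.Lib.RedSep.Basic
import Groth.Prelude.Def_EtAcyc

/-!
# Cohomological dimension from the constant sheaf on integral finite schemes
-/

universe u

set_option autoImplicit false
set_option linter.style.haveILetI false
set_option backward.isDefEq.respectTransparency.types false
set_option maxHeartbeats 800000

open CategoryTheory CategoryTheory.Limits AlgebraicGeometry Opposite Abelian TopologicalSpace
open Groth.Agent.EtStalk Groth.Agent.LocConst24 Groth.Agent.CdP3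

namespace Groth.Agent.PhiCd24

variable {X : Scheme.{u}}

/-- Every closed subset carries a reduced closed subscheme. -/
theorem exists_reduced_closed (Y : Scheme.{u}) (S : Set Y) (hS : IsClosed S) :
    ∃ (Z : Scheme.{u}) (c : Z ⟶ Y) (_ : IsClosedImmersion c), IsReduced Z ∧ Set.range c = S := by
  refine ⟨_, (Scheme.IdealSheafData.vanishingIdeal ⟨S, hS⟩).subschemeι, inferInstance,
    RedSepLib.isReduced_vanishingIdeal_subscheme _, ?_⟩
  rw [Scheme.IdealSheafData.range_subschemeι, Scheme.IdealSheafData.coe_support_vanishingIdeal]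
  rfl

/-- A reduced scheme embedded with irreducible image is integral. -/
theorem isIntegral_of_range {Y Z : Scheme.{u}} (c : Z ⟶ Y) [IsClosedImmersion c] [IsReduced Z]
    (h : IsIrreducible (Set.range c)) : IsIntegral Z := by
  haveI : IrreducibleSpace Z := by
    haveI : Nonempty Z := by
      obtain ⟨_, z, rfl⟩ := h.1
      exact ⟨z⟩
    refine { isPreirreducible_univ := ?_, toNonempty := inferInstance }
    intro u v hu hv ⟨a, _, ha⟩ ⟨b, _, hb⟩
    obtain ⟨u', hu', rfl⟩ := c.isEmbedding.isInducing.isOpen_iff.1 hu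
    obtain ⟨v', hv', rfl⟩ := c.isEmbedding.isInducing.isOpen_iff.1 hv
    obtain ⟨_, ⟨z, rfl⟩, hz⟩ := h.2 u' v' hu' hv' ⟨c a, ⟨a, rfl⟩, ha⟩ ⟨c b, ⟨b, rfl⟩, hb⟩
    exact ⟨z, trivial, hz⟩
  exact isIntegral_of_irreducibleSpace_of_isReduced Z

theorem isZero_of_isEmpty {Y : Scheme.{u}} [IsEmpty Y] (F : EtCoh.Ab Y) : IsZero F :=
  (isZero_iff_stalk F).2 fun Ω _ _ ξ => isEmptyElim (ξ default)

/-- The hypothesis on the function `φ`. -/
def StrictMono' (φ : ∀ (Y : Scheme.{u}), (Y ⟶ X) → ℕ) : Prop :=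
  ∀ (Y₁ Y₂ : Scheme.{u}) (g₁ : Y₁ ⟶ X) (g₂ : Y₂ ⟶ X) [IsIntegral Y₁] [IsIntegral Y₂] [IsFinite g₁]
    [IsFinite g₂] (m : Y₁ ⟶ Y₂), m ≫ g₂ = g₁ →
      φ Y₁ g₁ ≤ φ Y₂ g₂ ∧ (IsClosedImmersion m → ¬ IsIso m → φ Y₁ g₁ < φ Y₂ g₂)

/-- Schemes finite over `X` all of whose integral closed subschemes have `φ ≤ D`. -/
def Dle (φ : ∀ (Y : Scheme.{u}), (Y ⟶ X) → ℕ) (D : ℕ) (Y : Scheme.{u}) : Prop :=
  ∃ g : Y ⟶ X, IsFinite g ∧ ∀ (Z : Scheme.{u}) (c : Z ⟶ Y), IsIntegral Z → IsClosedImmersion c →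
    φ Z (c ≫ g) ≤ D

variable [IsNoetherian X] {φ : ∀ (Y : Scheme.{u}), (Y ⟶ X) → ℕ}

theorem isNoetherian_of_finite {Y : Scheme.{u}} (g : Y ⟶ X) [IsFinite g] : IsNoetherian Y := by
  haveI := LocallyOfFiniteType.isLocallyNoetherian g
  haveI : CompactSpace Y := QuasiCompact.compactSpace_of_compactSpace g
  exact {}

theorem Dle.of_finite (hφ : StrictMono' φ) {D : ℕ} {Y P : Scheme.{u}} (h : Dle φ D Y) (π : P ⟶ Y)
    (hπ : IsFinite π) : Dle φ D P := by
  haveI := hπ
  obtain ⟨g, hg, hD⟩ := h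
  haveI := hg
  refine ⟨π ≫ g, inferInstance, fun Z c hZ hc => ?_⟩
  haveI := hZ; haveI := hc
  obtain ⟨Z', c', hc', hred, hr⟩ := exists_reduced_closed Y _ (c ≫ π).isClosedMap.isClosed_range
  haveI := hc'; haveI := hred
  haveI : IsIntegral Z' := isIntegral_of_range c' (by
    rw [hr, ← Set.image_univ]
    exact (IrreducibleSpace.isIrreducible_univ _).image _ (c ≫ π).continuous.continuousOn)
  obtain ⟨m, hm⟩ := RedSepLib.exists_lift_of_range_subset (c ≫ π) c' hr.ge
  exact (hφ Z Z' (c ≫ π ≫ g) (c' ≫ g) m (by rw [reassoc_of% hm])).1.trans (hD Z' c' inferInstance hc')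

theorem van_of_unit {Y W : Scheme.{u}} (c : W ⟶ Y) [IsClosedImmersion c] {F : EtCoh.Ab Y}
    (hs : EtPBC.supp F ⊆ Set.range c) {D : ℕ} (h : Van D ((EtCoh.pull c).obj F)) : Van D F := by
  haveI := isIso_unit_integral c F hs
  exact (h.of_push_integral c).of_iso (asIso ((EtCoh.pullPushAdj c).unit.app F)).symm

/-- The constant sheaf has no cohomology above the bound. -/
theorem van_const {ℓ : ℕ} (hφ : StrictMono' φ)
    (h2 : ∀ (Y : Scheme.{u}) (g : Y ⟶ X) [IsIntegral Y] [IsFinite g] (q : ℕ), φ Y g < q →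
      Subsingleton (EtCoh.H Y (EtCoh.const Y (ZMod ℓ)) q)) (D : ℕ) :
    ∀ {Y : Scheme.{u}}, Dle φ D Y → Van D (EtCoh.const Y (ZMod ℓ)) := by
  induction D using Nat.strong_induction_on with
  | _ D ihD =>
    intro Y hY
    obtain ⟨g, hg, hD⟩ := hY
    haveI := hg
    haveI := isNoetherian_of_finite g
    suffices key : ∀ (S : Closeds Y) (W : Scheme.{u}) (c : W ⟶ Y), IsClosedImmersion c → IsReduced W →
        Set.range c = S → Van D (EtCoh.const W (ZMod ℓ)) by
      obtain ⟨W, c, hc, hred, hr⟩ := exists_reduced_closed Y Set.univ isClosed_univ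
      haveI := hc
      exact van_of_unit c (by rw [hr]; exact Set.subset_univ _)
        ((key ⊤ W c hc hred hr).of_iso (EtCore.pullConst c (ZMod ℓ)).symm)
    haveI : WellFoundedLT (Closeds Y) := inferInstance
    refine fun S => WellFoundedLT.induction (motive := fun S : Closeds Y => ∀ (W : Scheme.{u}) (c : W ⟶ Y),
      IsClosedImmersion c → IsReduced W → Set.range c = S → Van D (EtCoh.const W (ZMod ℓ))) S ?_
    intro S ihS W c hc hred hr
    haveI := hc; haveI := hred
    haveI := isNoetherian_of_finite (c ≫ g)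
    rcases isEmpty_or_nonempty W with hW | hW
    · exact Van.of_isZero (isZero_of_isEmpty _)
    by_cases hirr : IrreducibleSpace W
    · haveI : IsIntegral W := isIntegral_of_irreducibleSpace_of_isReduced W
      exact fun q hq => h2 W (c ≫ g) q (lt_of_le_of_lt (hD W c inferInstance hc) hq)
    -- a component and the union of the others
    obtain ⟨x⟩ := hW
    let A := irreducibleComponent x
    let B := ⋃ C ∈ irreducibleComponents W \ {A}, C
    have hAmem : A ∈ irreducibleComponents W := irreducibleComponent_mem_irreducibleComponents x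
    have hfin : (irreducibleComponents W \ {A}).Finite :=
      NoetherianSpace.finite_irreducibleComponents.subset Set.sdiff_subset
    have hBc : IsClosed B := hfin.isClosed_biUnion fun C hC => isClosed_of_mem_irreducibleComponents C hC.1
    have hcov : ∀ y, y ∈ A ∨ y ∈ B := fun y => by
      by_cases e : irreducibleComponent y = A
      · exact Or.inl (e ▸ mem_irreducibleComponent)
      · exact Or.inr (Set.mem_biUnion ⟨irreducibleComponent_mem_irreducibleComponents y, e⟩ mem_irreducibleComponent)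
    have hAB : ¬ A ⊆ B := by
      intro h
      obtain ⟨C, hC, hAC⟩ := isIrreducible_iff_sUnion_isClosed.1 isIrreducible_irreducibleComponent
        hfin.toFinset (fun C hC => isClosed_of_mem_irreducibleComponents C (hfin.mem_toFinset.1 hC).1)
        (by simpa [B, Set.sUnion_eq_biUnion] using h)
      rw [hfin.mem_toFinset] at hC
      exact hC.2 ((hAmem.2 hC.1.1 hAC).antisymm hAC)
    have hAne : A ≠ Set.univ := fun h => hirr { isPreirreducible_univ := h ▸ isIrreducible_irreducibleComponent.2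
                                                toNonempty := ⟨x⟩ }
    have hBne : B ≠ Set.univ := fun h => hAB (h ▸ Set.subset_univ _)
    have hlt : ∀ (s : Set W), IsClosed s → s ≠ Set.univ → ∃ T : Closeds Y, T < S ∧ (c '' s : Set Y) = T := by
      intro s hs hne
      refine ⟨⟨c '' s, c.isClosedMap s hs⟩, lt_of_le_of_ne ?_ ?_, rfl⟩
      · intro y hy
        obtain ⟨w, -, rfl⟩ := hy
        exact hr.le ⟨w, rfl⟩
      · intro e
        refine hne (c.isEmbedding.injective.image_injective ?_)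
        rw [Set.image_univ, hr, ← e]
        rfl
    obtain ⟨WA, iA, hiA, hAred, hrA⟩ := exists_reduced_closed W A isClosed_irreducibleComponent
    obtain ⟨WB, iB, hiB, hBred, hrB⟩ := exists_reduced_closed W B hBc
    haveI := hiA; haveI := hiB; haveI := hAred; haveI := hBred
    haveI : IsIntegral WA := isIntegral_of_range iA (hrA ▸ isIrreducible_irreducibleComponent)
    haveI := isNoetherian_of_finite (iA ≫ c ≫ g)
    let U : W.Opens := ⟨Bᶜ, hBc.isOpen_compl⟩
    obtain ⟨w, hS⟩ := Constr24.shortExact_extZero_pull' iB U.ι (by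
      rw [Scheme.Opens.range_ι, hrB]; rfl) (EtCoh.const W (ZMod ℓ))
    refine (Van.middle hS ?_ ?_ :)
    swap
    · obtain ⟨T, hT, hTe⟩ := hlt B hBc hBne
      refine (Van.of_push_integral iB ?_ :)
      refine (ihS T hT WB (iB ≫ c) inferInstance hBred ?_).of_iso (EtCore.pullConst iB (ZMod ℓ)).symm
      rw [← hTe, ← hrB, Scheme.Hom.comp_base, TopCat.coe_comp, Set.range_comp]
    obtain ⟨jA, hjA⟩ := RedSepLib.exists_lift_of_range_subset U.ι iA (by
      rw [Scheme.Opens.range_ι, hrA]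
      exact fun y hy => (hcov y).resolve_right hy)
    have hpb : IsPullback jA (𝟙 U.toScheme) iA U.ι :=
      IsPullback.mk ⟨by rw [Category.id_comp, hjA]⟩
        ⟨PullbackCone.IsLimit.mk _ (fun s => s.snd)
          (fun s => by rw [← cancel_mono iA, Category.assoc, hjA]; exact s.condition.symm)
          (fun s => Category.comp_id _) (fun s m _ h => by rw [← h, Category.comp_id])⟩
    haveI : IsOpenImmersion jA := MorphismProperty.of_isPullback hpb.flip inferInstance
    haveI : QuasiCompact jA := inferInstance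
    haveI : EtShriek.JCont jA := inferInstance
    obtain ⟨eiso⟩ := nonempty_push_extZero_iso_integral iA U.ι jA (𝟙 _) hpb (EtCoh.const U.toScheme (ZMod ℓ))
    refine Van.of_iso (Van.of_push_integral iA ?_) (eiso ≪≫ (EtShriek.extZero U.ι).mapIso
      ((EtDesc24.pushId U.toScheme).app _ ≪≫ (EtCore.pullConst U.ι (ZMod ℓ)).symm ≪≫
        ((restrPullIso U.ι).app _).symm))
    -- on the component
    obtain ⟨WT, iT, hiT, hTred, hrT⟩ :=
      exists_reduced_closed WA (Set.range jA)ᶜ jA.opensRange.2.isClosed_compl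
    haveI := hiT; haveI := hTred
    obtain ⟨w', hS'⟩ := Constr24.shortExact_extZero_pull' iT jA (by rw [hrT, compl_compl])
      (EtCoh.const WA (ZMod ℓ))
    intro q hq
    refine subsingleton_of_forall_eq 0 fun z => ?_
    let e₁ := (EtShriek.extZero jA).mapIso ((restrPullIso jA).app (EtCoh.const WA (ZMod ℓ)) ≪≫
      EtCore.pullConst jA (ZMod ℓ))
    refine CdP3.eq_zero_of_map_iso e₁.symm z ?_
    obtain ⟨m, rfl⟩ : ∃ m, q = m + 1 := ⟨q - 1, by omega⟩
    have hX2 : Subsingleton (EtCoh.H WA (EtCoh.const WA (ZMod ℓ)) (m + 1)) :=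
      h2 WA (iA ≫ c ≫ g) (m + 1) (lt_of_le_of_lt (by
        simpa only [Category.assoc] using hD WA (iA ≫ c) inferInstance inferInstance) hq)
    obtain ⟨y, hy⟩ := Ext.covariant_sequence_exact₁ _ hS' (Sheaf.H.map e₁.symm.hom (m + 1) z)
      (hX2.elim _ _) (n₀ := m) rfl
    have hX3 : Subsingleton (EtCoh.H WA ((EtCoh.push iT).obj ((EtCoh.pull iT).obj (EtCoh.const WA (ZMod ℓ)))) m) := by
      rcases isEmpty_or_nonempty WT with hWT | ⟨⟨t⟩⟩
      · refine subsingleton_of_forall_eq 0 fun v => ?_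
        rw [← Ext.comp_mk₀_id v, ((EtCoh.push iT).map_isZero (isZero_of_isEmpty _)).eq_of_src (𝟙 _) 0,
          Ext.mk₀_zero, Ext.comp_zero]
      have hsm : ∀ (Z : Scheme.{u}) (c' : Z ⟶ WT), IsIntegral Z → IsClosedImmersion c' →
          φ Z (c' ≫ iT ≫ iA ≫ c ≫ g) < D := by
        intro Z c' hZ hc'
        haveI := hZ; haveI := hc'
        have hnot : ¬ IsIso (c' ≫ iT) := by
          intro hi
          obtain ⟨y', hy', hyB⟩ := Set.not_subset.1 hAB
          obtain ⟨a, rfl⟩ : y' ∈ Set.range iA := hrA.ge hy'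
          obtain ⟨z', hz'⟩ := (c' ≫ iT).surjective a
          have ha : a ∈ (Set.range jA)ᶜ := hrT.le ⟨c' z', by rw [← hz', Scheme.Hom.comp_apply]⟩
          obtain ⟨u, hu⟩ : iA a ∈ Set.range U.ι := by rw [Scheme.Opens.range_ι]; exact hyB
          exact ha ⟨u, iA.isEmbedding.injective (by rw [← Scheme.Hom.comp_apply, hjA, hu])⟩
        exact lt_of_lt_of_le ((hφ Z WA (c' ≫ iT ≫ iA ≫ c ≫ g) (iA ≫ c ≫ g) (c' ≫ iT)
          (by rw [Category.assoc])).2 inferInstance hnot)
          (by simpa only [Category.assoc] using hD WA (iA ≫ c) inferInstance inferInstance)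
      haveI := isNoetherian_of_finite (iT ≫ iA ≫ c ≫ g)
      obtain ⟨Z, c', hc', hZred, hrZ⟩ := exists_reduced_closed WT (closure {t}) isClosed_closure
      haveI := hc'; haveI := hZred
      have hlt' := hsm Z c' (isIntegral_of_range c' (hrZ ▸ isIrreducible_singleton.closure)) hc'
      exact (ihD (D - 1) (by omega) ⟨iT ≫ iA ≫ c ≫ g, inferInstance, fun Z c' h1 h2 => by
          have := hsm Z c' h1 h2; omega⟩ |>.of_iso (EtCore.pullConst iT (ZMod ℓ)).symm).of_push_integral
        iT m (by omega)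
    rw [← hy]
    rw [hX3.elim y 0]
    exact Ext.zero_comp _ _ _ _ _

theorem cls_dle {ℓ : ℕ} (hφ : StrictMono' φ)
    (h2 : ∀ (Y : Scheme.{u}) (g : Y ⟶ X) [IsIntegral Y] [IsFinite g] (q : ℕ), φ Y g < q →
      Subsingleton (EtCoh.H Y (EtCoh.const Y (ZMod ℓ)) q)) (D : ℕ) :
    Cls.{u} ℓ D (Dle φ D) where
  noeth := fun ⟨g, hg, _⟩ => haveI := hg; isNoetherian_of_finite g
  van_const h := van_const hφ h2 D h
  of_finite h π hπ := h.of_finite hφ π hπ

/-- Sheaves with `p`-power torsion stalks are `p`-primary torsion. -/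
theorem isPrimaryTorsion_of_pTors {Y : Scheme.{u}} {p : ℕ} {F : EtCoh.Ab Y} (h : CdP3.PTors p F) :
    Dix.IsPrimaryTorsion p F := fun U s x => by
  obtain ⟨φ, hφ⟩ := EtStalk.exists_fib U x
  obtain ⟨a, ha⟩ := h _ (EtStalk.geomPt Y (U.hom x)) (EtStalk.germ (EtStalk.geomPt Y (U.hom x)) F φ s)
  rw [← map_nsmul, ← map_zero (EtStalk.germ (EtStalk.geomPt Y (U.hom x)) F φ).hom] at ha
  obtain ⟨V, g, y, hy, he⟩ := (EtStalk.germ_eq_iff _ F φ _ _).1 ha
  refine ⟨V, g, ⟨y.left (default : Spec (CommRingCat.of (SeparableClosure (Y.residueField (U.hom x))))),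
    ?_⟩, a, ?_⟩
  · exact Eq.trans (congrArg (fun t : EtStalk.fib (EtStalk.geomPt Y (U.hom x)) U => t.left (default :
      Spec (CommRingCat.of (SeparableClosure (Y.residueField (U.hom x)))))) hy) hφ
  · rw [map_nsmul, map_zero] at he
    exact he

theorem isPrimaryTorsion_of_isLTorsion {Y : Scheme.{u}} {ℓ : ℕ} {F : EtCoh.Ab Y}
    (h : EtAcyc.IsLTorsion {ℓ} F) : Dix.IsPrimaryTorsion ℓ F := fun U s x => by
  obtain ⟨V, g, m, hv, ⟨hm, hp⟩, h0⟩ := h U s x
  refine ⟨V, g, hv, m.primeFactorsList.length, ?_⟩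
  rw [← Nat.eq_prime_pow_of_unique_prime_dvd hm.ne' fun {d} hd hdm => hp d hd hdm]
  exact h0

end Groth.Agent.PhiCd24
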