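import Groth.Agent.Lib.CdP3.Main
import Groth.Agent.Lib.FibVan3.Class
import Groth.Agent.Lib.FibVan3.Double

/-!
# Vanishing above an arbitrary bound
-/

universe u

set_option autoImplicit false
set_option linter.style.haveILetI false
set_option backward.isDefEq.respectTransparency.types false
set_option maxHeartbeats 800000

open CategoryTheory CategoryTheory.Limits AlgebraicGeometry Opposite Abelian
open Groth.Agent.EtStalk Groth.Agent.LocConst24 Groth.Agent.CdP3

namespace Groth.Agent.PhiCd24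

variable {X U : Scheme.{u}} {p d : ℕ} {C : Scheme.{u} → Prop}

/-- The cohomology of `F` vanishes above degree `d`. -/
def Van (d : ℕ) (F : EtCoh.Ab X) : Prop := ∀ q : ℕ, d < q → Subsingleton (EtCoh.H X F q)

/-- A class of Noetherian schemes stable under finite morphisms on which the constant sheaf
`ℤ/p` has no cohomology above degree `d`. -/
structure Cls (p d : ℕ) (C : Scheme.{u} → Prop) : Prop where
  noeth : ∀ {X : Scheme.{u}}, C X → IsNoetherian X
  van_const : ∀ {X : Scheme.{u}}, C X → Van d (EtCoh.const X (ZMod p))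
  of_finite : ∀ {X P : Scheme.{u}}, C X → ∀ π : P ⟶ X, IsFinite π → C P

theorem Van.of_iso {A B : EtCoh.Ab X} (h : Van d A) (e : A ≅ B) : Van d B := fun q hq =>
  subsingleton_of_forall_eq 0 fun x => eq_zero_of_map_iso e.symm x ((h q hq).elim _ _)

theorem Van.of_isZero {A : EtCoh.Ab X} (h : IsZero A) : Van d A := fun q _ =>
  subsingleton_of_forall_eq 0 fun x => by
    rw [← Sheaf.H.map_id_apply x, h.eq_of_src (𝟙 A) 0]
    show x.comp (Ext.mk₀ 0) (add_zero q) = 0
    rw [Ext.mk₀_zero, Ext.comp_zero]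

theorem Van.middle {S : ShortComplex (EtCoh.Ab X)} (hS : S.ShortExact) (h1 : Van d S.X₁) (h3 : Van d S.X₃) :
    Van d S.X₂ := fun q hq => subsingleton_of_forall_eq 0 fun x => by
  obtain ⟨y, hy⟩ := Ext.covariant_sequence_exact₂ _ hS x ((h3 q hq).elim _ _)
  rw [← hy, (h1 q hq).elim y 0, Ext.zero_comp]

theorem Van.of_push_integral {X' : Scheme.{u}} (π : X' ⟶ X) [IsIntegralHom π] {F : EtCoh.Ab X'}
    (h : Van d F) : Van d ((EtCoh.push π).obj F) := fun q hq => by
  haveI := h q hq
  exact (FieldH25.bijective_HofPush_integral π F q).1.subsingleton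

/-- Vanishing from a multiple of the identity factoring through a vanishing sheaf. -/
theorem Van.of_factor {A B : EtCoh.Ab X} (p m : ℕ) (hm : Nat.Coprime p m) (hA : p • 𝟙 A = 0)
    (a : A ⟶ B) (b : B ⟶ A) (hab : a ≫ b = m • 𝟙 A) (hB : Van d B) : Van d A := fun q hq =>
  subsingleton_of_forall_eq 0 fun x => by
    have h1 : m • x = 0 := by
      rw [← FieldH25.H_map_nsmul_id A m q x, ← hab, Sheaf.H.map_comp_apply,
        (hB q hq).elim (Sheaf.H.map a q x) 0, map_zero]
    have h2 : p • x = 0 := by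
      rw [← FieldH25.H_map_nsmul_id A p q x, hA]
      have h := FieldH25.H_map_nsmul_id A 0 q x
      rwa [zero_nsmul, zero_nsmul] at h
    exact AddMonoid.addOrderOf_eq_one_iff.1 (Nat.eq_one_of_dvd_coprimes hm
      (addOrderOf_dvd_of_nsmul_eq_zero h2) (addOrderOf_dvd_of_nsmul_eq_zero h1))

theorem Van.of_retract {A B : EtCoh.Ab X} (h : Van d B) (a : A ⟶ B) (r : B ⟶ A) (har : a ≫ r = 𝟙 A) :
    Van d A := fun q hq => subsingleton_of_forall_eq 0 fun x => by
  rw [← Sheaf.H.map_id_apply x, ← har, Sheaf.H.map_comp_apply, (h q hq).elim (Sheaf.H.map a q x) 0,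
    map_zero]

theorem Van.of_push_integral' {X' : Scheme.{u}} (π : X' ⟶ X) [IsIntegralHom π] {F : EtCoh.Ab X'}
    (h : Van d ((EtCoh.push π).obj F)) : Van d F := fun q hq => by
  haveI := h q hq
  exact (FieldH25.bijective_HofPush_integral π F q).2.subsingleton

/-- Vanishing for extensions by zero of the constant sheaf along open immersions. -/
theorem van_extZero_const (hC : Cls p d C) (hX : C X) (j : U ⟶ X) [IsOpenImmersion j]
    [QuasiCompact j] [EtShriek.JCont j] : Van d ((EtShriek.extZero j).obj (EtCoh.const U (ZMod p))) := by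
  haveI := hC.noeth hX
  obtain ⟨P, π, a, b, hπ, ha', hb', hk, haπ, hbπ, hr, hpb⟩ := FibVan3.exists_double j
  haveI : EtShriek.JCont (j ≫ a) := inferInstance
  let K := EtCoh.const X (ZMod p)
  let F := (EtCoh.pull π).obj K
  let eF : F ≅ EtCoh.const P (ZMod p) := EtCore.pullConst π (ZMod p)
  obtain ⟨w, hS⟩ := Constr24.shortExact_extZero_pull' b (j ≫ a) hr F
  let S := ShortComplex.mk _ _ w
  haveI : (EtCoh.push π).Additive := (EtCoh.pullPushAdj π).right_adjoint_additive
  haveI := (EtCoh.pullPushAdj π).isRightAdjoint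
  let S' := S.map (EtCoh.push π)
  haveI := hS.mono_f
  have hm : Mono S'.f := inferInstanceAs (Mono ((EtCoh.push π).map S.f))
  have hex : S'.Exact := hS.exact.map_of_mono_of_preservesKernel _ inferInstance inferInstance
  haveI := isIso_unit_comp_of_section π b hbπ
  let θ := ((EtCoh.pullPushAdj π).comp (EtCoh.pullPushAdj b)).unit.app K
  have hθ : (EtCoh.pullPushAdj π).unit.app K ≫ S'.g = θ := by
    show _ = ((EtCoh.pullPushAdj π).comp (EtCoh.pullPushAdj b)).unit.app K
    rw [Adjunction.comp_unit_app]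
    rfl
  obtain ⟨θ', -, hθ'⟩ :=
    (NatIso.isIso_app_of_isIso ((EtCoh.pullPushAdj π).comp (EtCoh.pullPushAdj b)).unit K).out
  let s : S'.X₃ ⟶ S'.X₂ := θ' ≫ (EtCoh.pullPushAdj π).unit.app K
  have hs : s ≫ S'.g = 𝟙 _ :=
    ((Category.assoc _ _ _).trans (congrArg (θ' ≫ ·) hθ)).trans hθ'
  let sp := ShortComplex.Splitting.ofExactOfSection S' hex s hs hm
  have hF : Van d ((EtCoh.push π).obj F) :=
    ((hC.van_const (hC.of_finite hX π hπ)).of_iso eF.symm).of_push_integral π
  have hK : Van d ((EtShriek.extZero (j ≫ a)).obj ((EtShriek.restrAlong (j ≫ a)).obj F)) :=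
    Van.of_push_integral' π (Van.of_retract hF S'.f sp.r sp.f_r)
  let eU : (EtShriek.restrAlong (j ≫ a)).obj F ≅ EtCoh.const U (ZMod p) :=
    (EtShriek.restrAlong (j ≫ a)).mapIso eF ≪≫ (EtStalk.restrPullIso (j ≫ a)).app _ ≪≫
      EtCore.pullConst (j ≫ a) (ZMod p)
  obtain ⟨e⟩ := nonempty_push_extZero_iso_integral a (j ≫ a) j (𝟙 U) hpb (EtCoh.const U (ZMod p))
  exact Van.of_push_integral' a ((hK.of_iso ((EtShriek.extZero (j ≫ a)).mapIso eU)).of_iso
    ((EtShriek.extZero (j ≫ a)).mapIso ((EtDesc24.pushId U).app _).symm ≪≫ e.symm))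

/-- Vanishing for extensions by zero of finite direct images follows from vanishing for extensions by zero. -/
theorem van_of_finite {W : Scheme.{u}} (hC : Cls p d C) (hX : C X) (j : U ⟶ X) [IsOpenImmersion j]
    [QuasiCompact j] [EtShriek.JCont j] (c : W ⟶ U) [IsFinite c] (G : EtCoh.Ab W)
    (h : ∀ (X' : Scheme.{u}) (_ : C X') (j' : W ⟶ X') (_ : IsOpenImmersion j') (_ : QuasiCompact j')
      [EtShriek.JCont j'], Van d ((EtShriek.extZero j').obj G)) :
    Van d ((EtShriek.extZero j).obj ((EtCoh.push c).obj G)) := by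
  haveI := hC.noeth hX
  obtain ⟨X', π, hπ, j', hj', hjc', hpb⟩ := FibVan3.exists_finite_extension j c
  have hX' := hC.of_finite hX π hπ
  haveI := hπ
  haveI := hj'
  obtain ⟨e⟩ := nonempty_push_extZero_iso_integral π j j' c hpb G
  exact ((h _ hX' j' hj' hjc').of_push_integral π).of_iso e

end Groth.Agent.PhiCd24
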